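import Mathlib
import Groth.Agent.CommAlgDim.HilbertSamuel
import Groth.Agent.KunzLib.Basic

/-! Curvilinear jets detect regularity over an algebraically closed field. -/

set_option autoImplicit false

universe u

open MvPolynomial IsLocalRing Filter

namespace CurviLib

variable {k : Type u} [Field k] {R : Type u} [CommRing R] [Algebra k R] {e : ℕ}

theorem aeval_monomial_mem {S : Type u} [CommRing S] [Algebra k S] (I : Ideal S) (x : Fin e → S)
    (hx : ∀ i, x i ∈ I) (d : Fin e →₀ ℕ) (c : k) : aeval x (monomial d c) ∈ I ^ d.degree := by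
  rw [aeval_monomial]
  refine Ideal.mul_mem_left _ _ ?_
  simp only [Finsupp.prod, Finsupp.degree_apply]
  induction d.support using Finset.induction_on with
  | empty => simp
  | insert a s ha ih =>
    rw [Finset.prod_insert ha, Finset.sum_insert ha, pow_add]
    exact Ideal.mul_mem_mul (Ideal.pow_mem_pow (hx a) _) ih

theorem degree_eq {F : MvPolynomial (Fin e) k} {n : ℕ} (hF : F.IsHomogeneous n) {d : Fin e →₀ ℕ}
    (hd : d ∈ F.support) : d.degree = n := by
  rw [Finsupp.degree_eq_weight_one]
  exact hF (mem_support_iff.1 hd)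

theorem aeval_mem_pow {S : Type u} [CommRing S] [Algebra k S] (I : Ideal S) (x : Fin e → S)
    (hx : ∀ i, x i ∈ I) {F : MvPolynomial (Fin e) k} {n : ℕ} (hF : F.IsHomogeneous n) : aeval x F ∈ I ^ n := by
  rw [F.as_sum, map_sum]
  refine sum_mem fun d hd => ?_
  have := aeval_monomial_mem I x hx d (F.coeff d)
  rwa [degree_eq hF hd] at this

theorem aeval_smul_homogeneous {S : Type u} [CommRing S] [Algebra k S] (τ : S) (u : Fin e → S)
    {F : MvPolynomial (Fin e) k} {n : ℕ} (hF : F.IsHomogeneous n) :
    aeval (fun i => τ * u i) F = τ ^ n * aeval u F := by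
  conv_lhs => rw [F.as_sum]
  conv_rhs => rw [F.as_sum]
  rw [map_sum, map_sum, Finset.mul_sum]
  refine Finset.sum_congr rfl fun d hd => ?_
  rw [aeval_monomial, aeval_monomial, Finsupp.prod, Finsupp.prod]
  simp only [mul_pow, Finset.prod_mul_distrib, Finset.prod_pow_eq_pow_sum]
  have : ∑ i ∈ d.support, d i = n := by
    rw [← degree_eq hF hd]; rfl
  rw [this]; ring

variable [IsLocalRing R]

/-- No relations among the generators up to the degree `n`. -/
def NoRel (x : Fin e → R) (n : ℕ) : Prop :=
  ∀ j < n, ∀ F : MvPolynomial (Fin e) k, F.IsHomogeneous j → aeval x F ∈ maximalIdeal R ^ (j + 1) → F = 0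

theorem component_eq_zero {x : Fin e → R} (hx : ∀ i, x i ∈ maximalIdeal R) {n : ℕ} (h : NoRel (k := k) x n)
    {F : MvPolynomial (Fin e) k} (hF : aeval x F ∈ maximalIdeal R ^ n) :
    ∀ j < n, homogeneousComponent j F = 0 := by
  intro j
  induction j using Nat.strong_induction_on with
  | _ j ih =>
    intro hj
    refine h j hj _ (homogeneousComponent_isHomogeneous j F) ?_
    have h1 : aeval x F = ∑ i ∈ Finset.range (F.totalDegree + 1), aeval x (homogeneousComponent i F) := by
      rw [← map_sum, sum_homogeneousComponent]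
    by_cases hjr : j ∈ Finset.range (F.totalDegree + 1)
    · rw [← Finset.add_sum_erase _ _ hjr] at h1
      rw [eq_sub_of_add_eq h1.symm]
      refine sub_mem (Ideal.pow_le_pow_right hj hF) (sum_mem fun i hi => ?_)
      rcases lt_or_gt_of_ne (Finset.ne_of_mem_erase hi) with h' | h'
      · rw [ih i h' (h'.trans hj), map_zero]; exact zero_mem _
      · exact Ideal.pow_le_pow_right h' (aeval_mem_pow _ x hx (homogeneousComponent_isHomogeneous i F))
    · rw [homogeneousComponent_eq_zero j F (by simpa using hjr), map_zero]; exact zero_mem _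

theorem exists_poly (hk : ∀ r : R, ∃ c : k, r - algebraMap k R c ∈ maximalIdeal R) {x : Fin e → R}
    (hx : Ideal.span (Set.range x) = maximalIdeal R) (n : ℕ) :
    ∀ r : R, ∃ F : MvPolynomial (Fin e) k, r - aeval x F ∈ maximalIdeal R ^ n := by
  induction n with
  | zero => exact fun r => ⟨0, by simp⟩
  | succ n ih =>
    intro r
    obtain ⟨c, hc⟩ := hk r
    rw [← hx, Ideal.mem_span_range_iff_exists_fun] at hc
    obtain ⟨a, ha⟩ := hc
    choose G hG using fun i => ih (a i)
    refine ⟨C c + ∑ i, G i * X i, ?_⟩
    have h1 : r - aeval x (C c + ∑ i, G i * X i) = ∑ i, (a i - aeval x (G i)) * x i := by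
      simp only [map_add, aeval_C, map_sum, map_mul, aeval_X, sub_mul, Finset.sum_sub_distrib]
      rw [ha]; ring
    rw [h1, pow_succ]
    exact sum_mem fun i _ => Ideal.mul_mem_mul (hG i) (hx ▸ Ideal.subset_span ⟨i, rfl⟩)

variable [IsNoetherianRing R]

/-- Without relations the local ring is regular. -/
theorem isRegularLocalRing_of_noRel (hk : ∀ r : R, ∃ c : k, r - algebraMap k R c ∈ maximalIdeal R)
    {x : Fin e → R} (hx : Ideal.span (Set.range x) = maximalIdeal R)
    (h : ∀ n, NoRel (k := k) x n) : IsRegularLocalRing R := by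
  classical
  have hxm : ∀ i, x i ∈ maximalIdeal R := fun i => hx ▸ Ideal.subset_span ⟨i, rfl⟩
  obtain ⟨r, a, ha⟩ := Submodule.fg_iff_exists_fin_generating_family.1 (IsNoetherian.noetherian (Ring.jacobson R))
  haveI : Finite (MaximalSpectrum R) := Finite.of_injective (fun _ => ()) fun a b _ =>
    MaximalSpectrum.ext ((IsLocalRing.eq_maximalIdeal a.2).trans (IsLocalRing.eq_maximalIdeal b.2).symm)
  obtain ⟨P, hP⟩ := CommAlgDim.exists_isHSPoly_jacobson (R := R) R
  have hdim : (P.natDegree : WithBot ℕ∞) = ringKrullDim R := by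
    rw [CommAlgDim.natDegree_eq_supportDim hP, Module.supportDim_self_eq_ringKrullDim]
  refine IsRegularLocalRing.of_spanFinrank_maximalIdeal_le R ?_
  rw [← hdim]
  have hle : (maximalIdeal R).spanFinrank ≤ e := by
    rw [← hx]
    refine (Submodule.spanFinrank_span_le_ncard_of_finite (Set.finite_range x)).trans ?_
    rw [← Set.image_univ]
    exact (Set.ncard_image_le).trans (by simp)
  suffices e ≤ P.natDegree from by exact_mod_cast hle.trans this
  by_contra hlt
  push Not at hlt
  have hJ : Ring.jacobson R = maximalIdeal R := IsLocalRing.ringJacobson_eq_maximalIdeal R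
  haveI : IsLocalHom (algebraMap k R) := ⟨fun a ha => isUnit_iff_ne_zero.2 fun h0 =>
    not_isUnit_zero (M₀ := R) (by rwa [h0, map_zero] at ha)⟩
  have hres : Module.length (ResidueField k) (ResidueField R) ≤ 1 := by
    refine (Module.length_le_of_surjective (Algebra.linearMap (ResidueField k) (ResidueField R)) fun y => ?_).trans
      (by rw [Module.length_eq_one_iff.2 inferInstance])
    obtain ⟨r, rfl⟩ := residue_surjective y
    obtain ⟨c, hc⟩ := hk r
    refine ⟨residue k c, ?_⟩
    rw [Algebra.linearMap_apply, ← IsLocalRing.ResidueField.algebraMap_eq, ← IsScalarTower.algebraMap_apply,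
      IsScalarTower.algebraMap_apply k R (ResidueField R), eq_comm, ← sub_eq_zero]
    rw [IsLocalRing.ResidueField.algebraMap_eq, ← map_sub]
    exact Ideal.Quotient.eq_zero_iff_mem.2 hc
  have hbound : ∀ N : ℕ, N ^ e ≤ CommAlgDim.chi (Ring.jacobson R) R (e * N) := by
    intro N
    let M := R ⧸ (Ring.jacobson R ^ (e * N) • ⊤ : Submodule R R)
    let mon : (Fin e → Fin N) → MvPolynomial (Fin e) k := fun g =>
      monomial (Finsupp.equivFunOnFinite.symm fun i => (g i : ℕ)) 1
    let f : ((Fin e → Fin N) → k) →ₗ[k] M :=
      ((Submodule.mkQ _).restrictScalars k).comp ((aeval x).toLinearMap.comp (Fintype.linearCombination k mon))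
    have hf : Function.Injective f := by
      rw [injective_iff_map_eq_zero]
      intro c hc
      have hmem : aeval x (Fintype.linearCombination k mon c) ∈ maximalIdeal R ^ (e * N) := by
        have := (Submodule.Quotient.mk_eq_zero _).1 hc
        simpa [hJ] using this
      funext g
      have hdeg : (Finsupp.equivFunOnFinite.symm fun i => ((g i : Fin N) : ℕ)).degree < e * N := by
        rcases Nat.eq_zero_or_pos e with he | he
        · omega
        calc _ ≤ ∑ i : Fin e, (g i : ℕ) := by
              rw [Finsupp.degree]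
              exact Finset.sum_le_sum_of_subset (Finset.subset_univ _)
          _ < ∑ _i : Fin e, N := Finset.sum_lt_sum_of_nonempty ⟨⟨0, he⟩, Finset.mem_univ _⟩ fun i _ => (g i).2
          _ = e * N := by simp
      have h0 := congrArg (coeff (Finsupp.equivFunOnFinite.symm fun i => ((g i : Fin N) : ℕ)))
        (component_eq_zero hxm (h (e * N)) hmem _ hdeg)
      rw [coeff_homogeneousComponent, if_pos rfl, coeff_zero, Fintype.linearCombination_apply, coeff_sum] at h0
      rw [Finset.sum_eq_single g] at h0
      · simpa [mon] using h0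
      · intro g' _ hg'
        rw [coeff_smul, coeff_monomial, if_neg, smul_zero]
        intro heq
        exact hg' (funext fun i => Fin.ext (congrFun (Finsupp.equivFunOnFinite.symm.injective heq) i))
      · exact fun h => absurd (Finset.mem_univ g) h
    have h1 := Module.length_le_of_injective f hf
    rw [Module.length_eq_finrank, Module.finrank_fintype_fun_eq_card] at h1
    simp only [Fintype.card_fun, Fintype.card_fin] at h1
    rw [IsLocalRing.length_restrictScalars k R M] at h1
    have h2 : ((N ^ e : ℕ) : ℕ∞) ≤ Module.length R M :=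
      h1.trans ((mul_le_mul_right hres _).trans (by rw [mul_one]))
    rw [← CommAlgDim.coe_len (CommAlgDim.length_quotient_ne_top (I := Ring.jacobson R) (M := R)
      CommAlgDim.length_quotient_jacobson_ne_top (e * N))] at h2
    exact_mod_cast h2
  let Q := P.comp (Polynomial.C (e : ℚ) * Polynomial.X)
  have hQdeg : Q.degree < ((Polynomial.X : Polynomial ℚ) ^ e).degree := by
    rw [Polynomial.degree_X_pow]
    refine lt_of_le_of_lt Polynomial.degree_le_natDegree (Nat.cast_lt.2 (lt_of_le_of_lt ?_ hlt))
    exact le_trans Polynomial.natDegree_comp_le (le_of_le_of_eq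
      (Nat.mul_le_mul_left _ ((Polynomial.natDegree_C_mul_le _ _).trans Polynomial.natDegree_X_le)) (mul_one _))
  have ht := Polynomial.div_tendsto_zero_of_degree_lt (𝕜 := ℚ) Q (Polynomial.X ^ e) hQdeg
  have hlt1 := (ht.comp tendsto_natCast_atTop_atTop).eventually (eventually_lt_nhds (show (0 : ℚ) < 1 by norm_num))
  have he0 : 0 < e := by omega
  have hk' : Tendsto (fun N : ℕ => e * N) atTop atTop :=
    tendsto_atTop_mono (fun N => Nat.le_mul_of_pos_left N he0) tendsto_id
  obtain ⟨N, ⟨h1, h2⟩, hN⟩ := ((hlt1.and (hk'.eventually hP)).and (eventually_gt_atTop 0)).exists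
  simp only [Function.comp_apply, Polynomial.eval_pow, Polynomial.eval_X] at h1
  rw [div_lt_one (pow_pos (by exact_mod_cast hN) _)] at h1
  have h3 : Q.eval (N : ℚ) = (CommAlgDim.chi (Ring.jacobson R) R (e * N) : ℚ) := by
    rw [h2]; simp [Q]
  rw [h3] at h1
  have := hbound N
  have h4 : CommAlgDim.chi (Ring.jacobson R) R (e * N) < N ^ e := by exact_mod_cast h1
  omega

/-- Minimal generators satisfy no linear relation. -/
theorem noRel_one_two {x : Fin e → R} (hx : Ideal.span (Set.range x) = maximalIdeal R)
    (he : (maximalIdeal R).spanFinrank = e) {j : ℕ} (hj : j < 2) {F : MvPolynomial (Fin e) k}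
    (hF : F.IsHomogeneous j) (hm : aeval x F ∈ maximalIdeal R ^ (j + 1)) : F = 0 := by
  classical
  have hsupp : ∀ d ∈ F.support, d.degree = j := fun d hd => degree_eq hF hd
  interval_cases j
  · have hC : F = C (coeff 0 F) := by
      ext d
      rw [coeff_C]
      split_ifs with h
      · rw [h]
      · by_contra hd
        exact h ((Finsupp.degree_eq_zero_iff d).1 (hsupp d (mem_support_iff.2 hd))).symm
    rw [hC] at hm ⊢
    rw [aeval_C, zero_add, pow_one] at hm
    by_contra hne
    exact (mem_maximalIdeal _).1 hm ((isUnit_iff_ne_zero.2 fun h => hne (by rw [h, map_zero])).map _)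
  · by_contra hne
    obtain ⟨d, hd⟩ := support_nonempty.2 hne
    obtain ⟨i, hi⟩ : ∃ i, d i ≠ 0 := by
      by_contra h
      push Not at h
      have := hsupp d hd
      rw [show d = 0 from Finsupp.ext h] at this
      simp at this
    have hone : ∀ d' ∈ F.support, ∀ i', d' i' ≠ 0 → d' = Finsupp.single i' 1 := by
      intro d' hd' i' hi'
      have hs := hsupp d' hd'
      rw [Finsupp.degree_apply] at hs
      have h1 := Finset.add_sum_erase _ (fun a => d' a) (Finsupp.mem_support_iff.2 hi')
      rw [hs] at h1
      ext a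
      rcases eq_or_ne a i' with rfl | ha
      · simp only [Finsupp.single_eq_same]; omega
      · rw [Finsupp.single_eq_of_ne ha]
        by_cases has : a ∈ d'.support
        · have := Finset.single_le_sum (f := fun a => d' a) (fun _ _ => Nat.zero_le _) (Finset.mem_erase.2 ⟨ha, has⟩)
          omega
        · exact Finsupp.notMem_support_iff.1 has
    obtain rfl := hone d hd i hi
    let N : Ideal R := Ideal.span (x '' {i' | i' ≠ i})
    have hxi : x i ∈ N ⊔ maximalIdeal R • maximalIdeal R := by
      rw [F.as_sum, map_sum, ← Finset.add_sum_erase _ _ hd, aeval_monomial,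
        Finsupp.prod_single_index (h := fun i n => x i ^ n) (pow_zero _), pow_one, pow_succ, pow_one] at hm
      have hrest : ∑ d' ∈ F.support.erase (Finsupp.single i 1), aeval x (monomial d' (F.coeff d')) ∈ N := by
        refine sum_mem fun d' hd' => ?_
        obtain ⟨i', hi'⟩ : ∃ i', d' i' ≠ 0 := by
          by_contra h
          push Not at h
          have := hsupp d' (Finset.mem_of_mem_erase hd')
          rw [show d' = 0 from Finsupp.ext h] at this
          simp at this
        obtain rfl := hone d' (Finset.mem_of_mem_erase hd') i' hi'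
        rw [aeval_monomial, Finsupp.prod_single_index (h := fun i n => x i ^ n) (pow_zero _), pow_one]
        exact Ideal.mul_mem_left _ _ (Ideal.subset_span ⟨i', fun h => Finset.ne_of_mem_erase hd' (by rw [h]), rfl⟩)
      have hu : IsUnit (algebraMap k R (F.coeff (Finsupp.single i 1))) :=
        (isUnit_iff_ne_zero.2 (mem_support_iff.1 hd)).map _
      have h2 : algebraMap k R (F.coeff (Finsupp.single i 1)) * x i ∈ N ⊔ maximalIdeal R • maximalIdeal R := by
        rw [← add_sub_cancel_right (algebraMap k R (F.coeff (Finsupp.single i 1)) * x i)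
          (∑ d' ∈ F.support.erase (Finsupp.single i 1), aeval x (monomial d' (F.coeff d')))]
        exact sub_mem (Ideal.mem_sup_right hm) (Ideal.mem_sup_left hrest)
      exact (Submodule.smul_mem_iff_of_isUnit _ hu).1 h2
    have hle : maximalIdeal R ≤ N := by
      refine Submodule.le_of_le_smul_of_le_jacobson_bot (IsNoetherian.noetherian _)
        (IsLocalRing.jacobson_eq_maximalIdeal (⊥ : Ideal R) bot_ne_top).ge ?_
      conv_lhs => rw [← hx]
      refine Ideal.span_le.2 (Set.range_subset_iff.2 fun i' => ?_)
      rcases eq_or_ne i' i with rfl | h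
      · exact hxi
      · exact Ideal.mem_sup_left (Ideal.subset_span ⟨i', h, rfl⟩)
    have hN : N = maximalIdeal R := le_antisymm (hx ▸ Ideal.span_mono (Set.image_subset_range _ _)) hle
    have h3 : (maximalIdeal R).spanFinrank ≤ ({i' : Fin e | i' ≠ i} : Set (Fin e)).ncard := by
      rw [← hN]
      exact (Submodule.spanFinrank_span_le_ncard_of_finite ((Set.toFinite _).image x)).trans
        (Set.ncard_image_le (Set.toFinite _))
    rw [he] at h3
    have h4 : ({i' : Fin e | i' ≠ i} : Set (Fin e)).ncard = e - 1 := by
      rw [show ({i' : Fin e | i' ≠ i} : Set (Fin e)) = {i}ᶜ from rfl, Set.ncard_compl, Set.ncard_singleton]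
      simp
    have := i.pos
    omega

end CurviLib
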